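import Groth.Agent.GaDual.WittUnip.Split
import Groth.Agent.Misc1.Unip.DimOne.Ga
import Groth.Agent.GrpschAbsch.NeutralSubgroup
import Groth.Agent.GrpschLoci.FiniteHomLft
import Groth.Agent.Ega43Dim.DenseFinite
import Groth.Agent.AbVarMul.Consequences
import Mathlib.AlgebraicGeometry.Morphisms.FlatMono

/-!
Nontrivial connected commutative unipotent groups contain `W_1`.
-/

universe u

open CategoryTheory CategoryTheory.Limits MonoidalCategory CartesianMonoidalCategory MonObj GrpObj AlgebraicGeometry TopologicalSpace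

namespace Groth.GaDual.WittUnip

open scoped Groth.Agf
open Groth.GrpschAbsch WittOp WittEnd WittIsogeny WittSubgroup WittExt

variable {p : ℕ} [hp : Fact p.Prime] {k : Type u} [Field k] [IsAlgClosed k]

local notation "𝕊" => Spec (CommRingCat.of k)
local notation "𝕎₀" => WittGrp.W p
local notation "pt" => 𝟙_ (Over (Spec (CommRingCat.of k)))

omit hp in
/-- A group without nontrivial connected smooth subgroup has finitely many rational points. -/
theorem finite_pt_of_neutral (Z : Over 𝕊) [GrpObj Z] [Smooth Z.hom] [QuasiCompact Z.hom]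
    [IsSeparated Z.hom]
    (h : ∀ (K : Over 𝕊) [GrpObj K] (c : K ⟶ Z) [IsMonHom c], IsClosedImmersion c.left → Smooth K.hom →
      ConnectedSpace K.left → ∀ x : pt ⟶ K, x = 1) : Finite (pt ⟶ Z) := by
  have : LocallyOfFiniteType Z.hom := inferInstance
  obtain ⟨_, hm⟩ := exists_grpObj_neutralObj Z
  let c := neutralIncl Z
  have : LocallyOfFiniteType (neutralObj Z).hom := by rw [← Over.w c]; infer_instance
  have : LocallyOfFinitePresentation c.left := Groth.AlgGrp1.lfp_left c
  have : IsOpenImmersion c.left := IsOpenImmersion.of_flat_of_mono c.left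
  have hsm : Smooth (neutralObj Z).hom := by rw [← Over.w c]; infer_instance
  have := geometricallyIrreducible_neutralObj Z
  have : IrreducibleSpace (neutralObj Z).left :=
    GeometricallyIrreducible.irreducibleSpace_of_subsingleton (neutralObj Z).hom
  have h1 := h (neutralObj Z) c inferInstance hsm inferInstance
  have := LocallyOfFiniteType.jacobsonSpace (neutralObj Z).hom
  have := LocallyOfFiniteType.jacobsonSpace Z.hom
  have hsub : Set.range c.left ⊆ {Groth.AlgGrp1.rpt (1 : pt ⟶ Z)} := by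
    rintro _ ⟨y, rfl⟩
    have : y ∈ closure (closedPoints (neutralObj Z).left) := by rw [closure_closedPoints]; trivial
    have hsingle : closedPoints (neutralObj Z).left ⊆ {Groth.AlgGrp1.rpt (1 : pt ⟶ neutralObj Z)} := by
      intro z hz
      obtain ⟨x, rfl⟩ := Groth.AlgGrp1.exists_rpt hz
      rw [h1 x]; rfl
    have hy : y ∈ closure ({Groth.AlgGrp1.rpt (1 : pt ⟶ neutralObj Z)} : Set (neutralObj Z).left) :=
      closure_mono hsingle this
    rw [(Groth.AlgGrp1.rpt_closed _).closure_eq] at hy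
    rw [Set.mem_singleton_iff.1 hy, Set.mem_singleton_iff]
    show c.left (Groth.AlgGrp1.rpt (1 : pt ⟶ neutralObj Z)) = _
    conv_rhs => rw [← MonObj.one_comp (X := pt) c]
    rfl
  have hopen : IsOpen ({Groth.AlgGrp1.rpt (1 : pt ⟶ Z)} : Set Z.left) := by
    have e : Set.range c.left = {Groth.AlgGrp1.rpt (1 : pt ⟶ Z)} :=
      Set.Subset.antisymm hsub (Set.singleton_subset_iff.2 ⟨Groth.AlgGrp1.rpt 1, by
        conv_rhs => rw [← MonObj.one_comp (X := pt) c]
        rfl⟩)
    rw [← e]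
    exact c.left.isOpenEmbedding.isOpen_range
  have hiso : ∀ z : pt ⟶ Z, IsOpen ({Groth.AlgGrp1.rpt z} : Set Z.left) := fun z => by
    let t : Z ⟶ Z := 𝟙 Z * (toUnit Z ≫ z⁻¹)
    have ht : z ≫ t = 1 := by
      rw [MonObj.comp_mul, Category.comp_id, ← Category.assoc, toUnit_unique (z ≫ toUnit Z) (𝟙 _),
        Category.id_comp, mul_inv_cancel]
    have ht' : ∀ x : pt ⟶ Z, x ≫ t = 1 → x = z := fun x hx => by
      rw [MonObj.comp_mul, Category.comp_id, ← Category.assoc, toUnit_unique (x ≫ toUnit Z) (𝟙 _),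
        Category.id_comp] at hx
      exact mul_inv_eq_one.1 hx
    have e : t.left ⁻¹' {Groth.AlgGrp1.rpt (1 : pt ⟶ Z)} = {Groth.AlgGrp1.rpt z} := by
      let t' : Z ⟶ Z := 𝟙 Z * (toUnit Z ≫ z)
      have htt : t ≫ t' = 𝟙 Z := by
        rw [MonObj.comp_mul, Category.comp_id, ← Category.assoc, toUnit_unique (t ≫ toUnit Z) (toUnit Z)]
        simp only [t]
        rw [_root_.mul_assoc, GrpObj.comp_inv, inv_mul_cancel, _root_.mul_one]
      have hinj : Function.Injective t.left := Function.LeftInverse.injective (g := t'.left) fun y => by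
        rw [← Scheme.Hom.comp_apply, ← Over.comp_left, htt]; rfl
      have hz : t.left (Groth.AlgGrp1.rpt z) = Groth.AlgGrp1.rpt (1 : pt ⟶ Z) := by
        rw [← ht]; rfl
      ext y
      rw [Set.mem_preimage, Set.mem_singleton_iff, Set.mem_singleton_iff, ← hz]
      exact hinj.eq_iff
    rw [← e]
    exact hopen.preimage t.left.continuous
  have huniv : closedPoints Z.left = Set.univ := by
    by_contra hne
    have hop : IsOpen (closedPoints Z.left) := by
      rw [← Set.biUnion_of_singleton (closedPoints Z.left)]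
      refine isOpen_biUnion fun y hy => ?_
      obtain ⟨z, rfl⟩ := Groth.AlgGrp1.exists_rpt hy
      exact hiso z
    obtain ⟨y, hy⟩ := (Set.nonempty_compl.2 hne)
    obtain ⟨c, hc, hc'⟩ := nonempty_inter_closedPoints (Z := (closedPoints Z.left)ᶜ) ⟨y, hy⟩
      hop.isClosed_compl.isLocallyClosed
    exact hc hc'
  have : DiscreteTopology Z.left := discreteTopology_iff_isOpen_singleton.2 fun y => by
    obtain ⟨z, rfl⟩ := Groth.AlgGrp1.exists_rpt (huniv.symm ▸ Set.mem_univ y)
    exact hiso z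
  have : CompactSpace Z.left := QuasiCompact.compactSpace_of_compactSpace Z.hom
  have : Finite Z.left := finite_of_compact_of_discrete
  exact Finite.of_injective Groth.AlgGrp1.rpt fun _ _ h => Groth.AlgGrp1.rpt_injective h


omit [IsAlgClosed k] in
/-- The dimension of `W_n`. -/
theorem dim_W (n : ℕ) : topologicalKrullDim (𝕎₀ n 𝕊).left = n := by
  refine (Groth.Ega43Dim.dim_affineSpace k (ULift.{u} (Fin n))).trans ?_
  simp

/-- A homomorphism with finitely many rational points in the kernel is finite. -/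
theorem isFinite_of_ker {G H : Over 𝕊} [GrpObj G] [GrpObj H] (hG : IsUnip p G) (hH : IsUnip p H)
    (f : G ⟶ H) [IsMonHom f] (hk : {x : pt ⟶ G | x ≫ f = 1}.Finite) : IsFinite f.left := by
  have := hG.lft; have := hH.lft; have := hG.qc; have := hH.sep
  have : QuasiCompact (f.left ≫ H.hom) := by rw [Over.w]; infer_instance
  have := QuasiCompact.of_comp f.left H.hom
  have hmem : ∀ x : pt ⟶ G, Groth.AlgGrp1.rpt x ∈ f.left ⁻¹' {η[H].left (IsLocalRing.closedPoint k)} ↔
      x ≫ f = 1 := by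
    intro x
    have e : η[H].left (IsLocalRing.closedPoint k) = Groth.AlgGrp1.rpt (1 : pt ⟶ H) := by
      rw [Hom.one_def, toUnit_unique (toUnit _) (𝟙 _), Category.id_comp]
    rw [Set.mem_preimage, Set.mem_singleton_iff, e]
    exact ⟨fun h => Groth.AlgGrp1.rpt_injective h, fun h => by rw [← h]; rfl⟩
  set F := f.left ⁻¹' {η[H].left (IsLocalRing.closedPoint k)} with hF
  have hclosed : IsClosed F := by
    refine IsClosed.preimage f.left.continuous ?_
    have e : η[H].left (IsLocalRing.closedPoint k) = Groth.AlgGrp1.rpt (1 : pt ⟶ H) := by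
      rw [Hom.one_def, toUnit_unique (toUnit _) (𝟙 _), Category.id_comp]
    rw [e]
    exact Groth.AlgGrp1.rpt_closed _
  have := LocallyOfFiniteType.jacobsonSpace G.hom
  have hsub : F ∩ closedPoints G.left ⊆ Groth.AlgGrp1.rpt '' {x : pt ⟶ G | x ≫ f = 1} := by
    rintro y ⟨hy, hy'⟩
    obtain ⟨x, rfl⟩ := Groth.AlgGrp1.exists_rpt hy'
    exact ⟨x, (hmem x).1 hy, rfl⟩
  have hfin : (F ∩ closedPoints G.left).Finite := (hk.image _).subset hsub
  have hFeq : F = F ∩ closedPoints G.left := by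
    refine Set.Subset.antisymm (fun y hy => ?_) Set.inter_subset_left
    have hy2 : y ∈ closure (F ∩ closedPoints G.left) :=
      (closure_inter_closedPoints hclosed).symm ▸ hy
    have hc : IsClosed (F ∩ closedPoints G.left) := by
      rw [← Set.biUnion_of_singleton (F ∩ closedPoints G.left)]
      exact hfin.isClosed_biUnion fun z hz => hz.2
    exact hc.closure_subset hy2
  have hd : _root_.IsDiscrete F := by
    rw [isDiscrete_iff_discreteTopology]
    have : Finite F := (show F.Finite by rw [hFeq]; exact hfin).to_subtype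
    have : T1Space F := t1Space_iff_exists_open.2 fun a b hab => by
      refine ⟨((↑) : F → G.left) ⁻¹' {(b : G.left)}ᶜ, ?_, fun e => hab (Subtype.ext e), fun e => e rfl⟩
      exact (IsClosed.isOpen_compl (self := (show IsClosed {(b : G.left)} from ((Set.ext_iff.1 hFeq (b : G.left)).1 b.2).2))).preimage
        continuous_subtype_val
    infer_instance
  have := Groth.GrpschLoci.lqf_of_discrete_kernel f hd
  exact Groth.GrpschLoci.isFinite_of_discrete_kernel f

/-- Isogenies preserve the dimension. -/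
theorem dim_eq_of_isogeny {G H : Over 𝕊} [GrpObj G] [GrpObj H] (hG : IsUnip p G) (hH : IsUnip p H)
    (f : G ⟶ H) [IsMonHom f] (hf : SGA7.IsIsogenyOver f) :
    topologicalKrullDim G.left = topologicalKrullDim H.left := by
  have := isFinite_of_ker hG hH f (finite_ker_pt f hf)
  have := hf.1
  exact Groth.AbVarMul.topologicalKrullDim_eq_of_finite_surjective f.left

/-- A nonzero primitive function is a nontrivial homomorphism to `W_1`. -/
theorem exists_hom_of_prim [CharP k p] {G : Over 𝕊} [GrpObj G] (hG : IsUnip p G) {A : Type u} [CommRing A]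
    [HopfAlgebra k A] [Algebra.FiniteType k A] [IsDomain A] (e : CoactBr.sp k A ≅ G) [IsMonHom e.hom] {x : A}
    (hx : Coalgebra.comul (R := k) x = x ⊗ₜ[k] (1 : A) + (1 : A) ⊗ₜ[k] x) :
    ∃ χ : G ⟶ 𝕎₀ 1 𝕊, IsMonHom χ ∧ (χ = 1 → x = 0) ∧ (Algebra.adjoin k {x} = ⊤ → Mono χ) := by
  have := hG.smooth
  have := isAffineHom_W p (k := k) 1
  let c₀ : CoactBr.sp k A ⟶ 𝕎₀ 1 𝕊 := (WittGrp.ptsEquiv p _).symm
    (Multiplicative.ofAdd (TruncatedWittVector.mk p fun _ => Groth.Reductive2.UnipTriv.spFn A x))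
  have hc₀ : ∀ (X : Over 𝕊) (a : X ⟶ CoactBr.sp k A),
      (WittGrp.pts p X (Additive.ofMul (a ≫ c₀))).coeff 0 = Groth.Reductive2.UnipTriv.val a x := by
    intro X a
    rw [WittGrp.pts_comp, WittGrp.coeff_truncMap,
      show WittGrp.pts p (CoactBr.sp k A) (Additive.ofMul c₀) = TruncatedWittVector.mk p fun _ =>
        Groth.Reductive2.UnipTriv.spFn A x from congrArg Multiplicative.toAdd
          ((WittGrp.ptsEquiv p _).apply_symm_apply _), TruncatedWittVector.coeff_mk]
    rfl
  have hext : ∀ (X : Over 𝕊) (f g : X ⟶ 𝕎₀ 1 𝕊),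
      (WittGrp.pts p X (Additive.ofMul f)).coeff 0 = (WittGrp.pts p X (Additive.ofMul g)).coeff 0 → f = g :=
    fun X f g h => WittGrp.pts_injective p X (TruncatedWittVector.ext fun i => by
      rw [Subsingleton.elim i 0]; exact h)
  have hc₀m : ∀ (X : Over 𝕊) (a b : X ⟶ CoactBr.sp k A), (a * b) ≫ c₀ = (a ≫ c₀) * (b ≫ c₀) := by
    intro X a b
    refine hext X _ _ ?_
    rw [hc₀, WittGrp.pts_mul, show (0 : Fin 1) = ⟨0, one_pos⟩ from rfl,
      coeff_add_zero p _ _ one_pos, ← show (0 : Fin 1) = ⟨0, one_pos⟩ from rfl, hc₀, hc₀,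
      Groth.Reductive2.UnipTriv.val_mul, AlgHom.comp_apply, Bialgebra.comulAlgHom_apply, hx]
    simp [Algebra.TensorProduct.lift_tmul]
  have : IsMonHom c₀ := Groth.AlgGrp1.isMonHom_of_points c₀ hc₀m
  let χ : G ⟶ 𝕎₀ 1 𝕊 := e.inv ≫ c₀
  have : IsMonHom e.inv := Groth.AlgGrp1.isMonHom_of_points e.inv fun T a b => by
    rw [← cancel_mono e.hom, MonObj.mul_comp (a ≫ e.inv) (b ≫ e.inv)]
    simp only [Category.assoc, Iso.inv_hom_id, Category.comp_id]
  refine ⟨χ, inferInstance, fun h => ?_, fun hgen => ?_⟩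
  · have h1 : c₀ = 1 := by rw [← cancel_epi e.inv, MonObj.comp_one]; exact h
    have h2 := hc₀ _ (𝟙 (CoactBr.sp k A))
    rw [h1, MonObj.comp_one, WittGrp.pts_one, TruncatedWittVector.coeff_zero] at h2
    refine (Scheme.ΓSpecIso (CommRingCat.of A)).commRingCatIsoToRingEquiv.symm.injective ?_
    rw [map_zero]
    refine Eq.trans ?_ h2.symm
    show _ = Scheme.Hom.appTop (Over.Hom.left (𝟙 (CoactBr.sp k A))) _
    rw [Over.id_left, Scheme.Hom.id_appTop]
    rfl
  · have : Mono c₀ := mono_of_trivial c₀ fun T a ha => by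
      have hzero : Groth.Reductive2.UnipTriv.val a x = 0 := by
        rw [← hc₀, ha, WittGrp.pts_one, TruncatedWittVector.coeff_zero]
      have hx0 : Coalgebra.counit (R := k) x = 0 := Groth.Misc1.Unip.counit_primitive hx
      have e2 : Groth.Reductive2.UnipTriv.val a =
          Groth.Reductive2.UnipTriv.val (1 : T ⟶ CoactBr.sp k A) := by
        refine AlgHom.ext_of_adjoin_eq_top hgen ?_
        rintro _ rfl
        rw [hzero, Groth.Reductive2.UnipTriv.val_one, AlgHom.comp_apply, Bialgebra.counitAlgHom_apply,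
          hx0, map_zero]
      rw [Groth.Reductive2.UnipTriv.eq_tP_pt a, e2, ← Groth.Reductive2.UnipTriv.eq_tP_pt]
    exact mono_comp e.inv c₀

/-- A nontrivial group contains `W_1`. -/
theorem exists_line [CharP k p] {G : Over 𝕊} (hG' : GrpObj G) (h : IsUnip p G) :
    (∃ x : pt ⟶ G, x ≠ 1) → ∃ i : 𝕎₀ 1 𝕊 ⟶ G, IsMonHom i ∧ IsClosedImmersion i.left := by
  refine induction (motive := fun G hG => (∃ x : pt ⟶ G, x ≠ 1) → ∃ i : 𝕎₀ 1 𝕊 ⟶ G, IsMonHom i ∧
    IsClosedImmersion i.left) ?_ G hG' h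
  clear h hG' G
  intro G _ hG ih ⟨x₀, hx₀⟩
  have := hG.comm
  have := hG.smooth
  have := hG.affine
  have := hG.conn
  have := hG.sep
  have := (isUnip_W (p := p) (k := k) 1).sep
  obtain ⟨A, _, _, _, _, e, _, hU⟩ := Groth.Misc1.Unip.exists_unipotent_hopf G hG.noSubtorus
  obtain ⟨a, ha⟩ : ∃ a : A, a ∉ Submodule.span k {(1 : A)} := by
    by_contra hne
    push Not at hne
    refine hx₀ ?_
    rw [← cancel_mono e.inv]
    rw [Groth.Reductive2.UnipTriv.eq_tP_pt (x₀ ≫ e.inv),
      Groth.Reductive2.UnipTriv.eq_tP_pt ((1 : pt ⟶ G) ≫ e.inv)]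
    congr 2
    ext b
    obtain ⟨c, rfl⟩ := Submodule.mem_span_singleton.1 (hne b)
    rw [map_smul, map_smul, map_one, map_one]
  obtain ⟨x, hx0, hx⟩ := Groth.Misc1.Unip.exists_primitive_of_exhaustive
    (fun a => Groth.ComodLib.exists_mem_fixSeries hU a) ha
  obtain ⟨χ, _, hχ1, -⟩ := exists_hom_of_prim hG e hx
  -- the reduced kernel
  have hker : AlgGrp.IsKernel (pullback.fst χ η[𝕎₀ 1 𝕊]) χ := by
    show IsPullback _ (toUnit _) χ η[𝕎₀ 1 𝕊]
    rw [toUnit_unique (toUnit _) (pullback.snd χ η[𝕎₀ 1 𝕊])]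
    exact IsPullback.of_hasPullback χ η[𝕎₀ 1 𝕊]
  let i := pullback.fst χ η[𝕎₀ 1 𝕊]
  have := Groth.AlgGrp1.IsKernel.mono hker
  obtain ⟨_, _⟩ := Groth.Agf.exists_grpObj_of_subgroup i (fun T g => g ≫ χ = 1)
    (fun T g => Groth.AlgGrp1.IsKernel.exists_iff hker g) (fun T => MonObj.one_comp χ)
    (fun T a b ha hb => by rw [MonObj.mul_comp, ha, hb, _root_.mul_one])
    (fun T a ha => by rw [GrpObj.inv_comp, ha, inv_one])
  have : IsClosedImmersion i.left := by
    have : IsClosedImmersion (η[𝕎₀ 1 𝕊]).left := by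
      have := isAffineHom_W p (k := k) 1
      have : IsClosedImmersion ((η[𝕎₀ 1 𝕊]).left ≫ (𝕎₀ 1 𝕊).hom) := by
        rw [Over.w]; exact inferInstanceAs (IsClosedImmersion (𝟙 _))
      exact IsClosedImmersion.of_comp _ (𝕎₀ 1 𝕊).hom
    exact MorphismProperty.of_isPullback (P := @IsClosedImmersion) (hker.map (Over.forget 𝕊)).flip ‹_›
  have : LocallyOfFiniteType (pullback χ η[𝕎₀ 1 𝕊]).hom := by rw [← Over.w i]; infer_instance
  have : QuasiCompact (pullback χ η[𝕎₀ 1 𝕊]).hom := by rw [← Over.w i]; infer_instance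
  obtain ⟨Z, _, cZ, _, _, hsurj, _, _⟩ := Groth.AlgGrp1.exists_reduced_subgroup (pullback χ η[𝕎₀ 1 𝕊])
  have : IsClosedImmersion (cZ ≫ i).left := by rw [Over.comp_left]; infer_instance
  have : IsSeparated Z.hom := by
    rw [← Over.w (cZ ≫ i)]; infer_instance
  by_cases hK : ∃ (K : Over 𝕊) (_ : GrpObj K) (c : K ⟶ Z), IsMonHom c ∧ IsClosedImmersion c.left ∧
      Smooth K.hom ∧ ConnectedSpace K.left ∧ ∃ x : pt ⟶ K, x ≠ 1
  · obtain ⟨K, _, c, _, _, hKs, hKc, hKx⟩ := hK
    have : IsClosedImmersion (c ≫ cZ ≫ i).left := by rw [Over.comp_left]; infer_instance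
    have hU' := hG.of_mono (c ≫ cZ ≫ i) hKs hKc
    have hns : ¬ Surjective (c ≫ cZ ≫ i).left := fun hs => hx0 (hχ1 (hom_ext_pt _ _ fun t => by
      have := hU'.lft
      have := hG.lft
      obtain ⟨z, rfl⟩ := surjective_pt (c ≫ cZ ≫ i) t
      rw [MonObj.comp_one]
      simp only [Category.assoc, show i ≫ χ = 1 from Groth.AlgGrp1.IsKernel.comp_eq_one hker, MonObj.comp_one]))
    obtain ⟨j, _, _⟩ := ih K _ hU' (c ≫ cZ ≫ i).left inferInstance hns hKx
    refine ⟨j ≫ c ≫ cZ ≫ i, inferInstance, ?_⟩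
    simp only [Over.comp_left]
    infer_instance
  push Not at hK
  have : Finite (pt ⟶ Z) := finite_pt_of_neutral Z fun K _ c hc h1 h2 h3 => hK K _ c hc h1 h2 h3
  have hkfin : {x : pt ⟶ G | x ≫ χ = 1}.Finite :=
    (Set.finite_range (fun z : pt ⟶ Z => z ≫ cZ ≫ i)).subset fun y hy => by
      obtain ⟨n, hn⟩ := Groth.AlgGrp1.IsKernel.exists_lift hker y hy
      obtain ⟨z, hz⟩ := surjective_pt cZ n
      exact ⟨z, show z ≫ cZ ≫ i = y by rw [← Category.assoc, hz, hn]⟩
  -- the image is everything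
  have := hG.qc
  have := locallyOfFiniteType_W p (k := k) 1
  have := isAffineHom_W p (k := k) 1
  obtain ⟨I, _, ci, gi, _, _, _, _, _, _, _, hgc⟩ := Groth.AlgGrp1.exists_image_hom χ
  have := Groth.AlgGrp1.smooth_of_flat_surjective_hom gi
  have := Groth.AlgGrp1.connectedSpace_of_surjective gi
  obtain ⟨m, hm, eI, heI⟩ := exists_iso_V p 1 I ci
  obtain rfl : m = 1 := by
    by_contra hne
    obtain rfl : m = 0 := by omega
    refine hx0 (hχ1 (hom_ext_pt _ _ fun t => ?_))
    obtain ⟨v, hv⟩ := exists_kpt p (t ≫ gi ≫ eI.hom)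
    rw [← hgc, ← heI, MonObj.comp_one, ← Category.assoc gi, ← Category.assoc, ← hv,
      show v = 0 from TruncatedWittVector.ext fun i => i.elim0, kpt_zero, MonObj.one_comp]
  have hχs : ∀ y : pt ⟶ 𝕎₀ 1 𝕊, ∃ z, z ≫ χ = y := fun y => by
    obtain ⟨v, rfl⟩ := exists_kpt p y
    have hV : WittGrp.V p 𝕊 (le_refl 1) = 𝟙 _ := val_ext p fun w => by
      rw [val_V, val_id]
      ext i
      rw [WittGrp.coeff_shift, dif_pos (by simp)]
      congr 1
    rw [hV, Category.comp_id] at heI
    obtain ⟨z, hz⟩ := surjective_pt gi (kpt p v ≫ eI.inv)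
    exact ⟨z, by rw [← hgc, ← Category.assoc, hz, ← heI, Category.assoc, Iso.inv_hom_id, Category.comp_id]⟩
  have := (Groth.Agent.S12182.result p k 1).1
  have hiso := hG.isogeny (isUnip_W 1) χ hχs hkfin
  -- dimension one
  have hdim : ringKrullDim A = 1 := by
    have : IsIso e.hom.left := inferInstanceAs (IsIso ((Over.forget _).map e.hom))
    rw [← PrimeSpectrum.topologicalKrullDim_eq_ringKrullDim,
      show topologicalKrullDim (PrimeSpectrum A) = topologicalKrullDim G.left from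
        IsHomeomorph.topologicalKrullDim_eq _ e.hom.left.homeomorph.isHomeomorph,
      dim_eq_of_isogeny hG (isUnip_W 1) χ hiso, dim_W]
    rfl
  have : Coalgebra.IsCocomm k A := Groth.Reductive2.UnipTriv.isCocomm_of_comm fun X x y =>
    (cancel_mono e.hom).1 (by rw [MonObj.mul_comp, MonObj.mul_comp, _root_.mul_comm])
  obtain ⟨z, -, hz, hzgen⟩ := Groth.Misc1.Unip.DimOne.exists_gen_charP p hdim hU
  obtain ⟨ξ, _, -, hξ⟩ := exists_hom_of_prim hG e hz
  have := hξ hzgen
  have := Groth.AlgGrp1.isClosedImmersion_of_mono_hom ξ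
  obtain ⟨m, hm, eG, heG⟩ := exists_iso_V p 1 G ξ
  obtain rfl : m = 1 := by
    by_contra hne
    obtain rfl : m = 0 := by omega
    obtain ⟨v, hv⟩ := exists_kpt p (x₀ ≫ eG.hom)
    refine hx₀ ((cancel_mono ξ).1 ?_)
    rw [← heG, ← Category.assoc, ← hv, show v = 0 from TruncatedWittVector.ext fun i => i.elim0,
      kpt_zero, MonObj.one_comp, heG, MonObj.one_comp]
  have hV : WittGrp.V p 𝕊 (le_refl 1) = 𝟙 _ := val_ext p fun w => by
    rw [val_V, val_id]
    ext i
    rw [WittGrp.coeff_shift, dif_pos (by simp)]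
    congr 1
  rw [hV, Category.comp_id] at heG
  have : IsMonHom eG.hom := by rw [heG]; infer_instance
  have : IsMonHom eG.inv := Groth.AlgGrp1.isMonHom_of_points eG.inv fun T a b => by
    rw [← cancel_mono eG.hom, MonObj.mul_comp (a ≫ eG.inv) (b ≫ eG.inv)]
    simp only [Category.assoc, Iso.inv_hom_id, Category.comp_id]
  have : IsIso eG.inv.left := inferInstanceAs (IsIso ((Over.forget 𝕊).map eG.inv))
  exact ⟨eG.inv, inferInstance, inferInstance⟩

end Groth.GaDual.WittUnip
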