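import Groth.Agent.GaDual.WittExt.Main
import Groth.Agent.S12186
import Groth.Agent.GrpschAbsch.NoTorus
import Groth.Agent.GrpschAbsch.SmoothField
import Groth.Agent.NeronArea.TorsCount
import Groth.Agent.AbVarMul.KernelComp
import Groth.Agent.AlgGrp1.ImageHom
import Groth.Agent.Reductive.SubgroupObj

/-!
Connected commutative unipotent groups: basic facts.
-/

universe u

open CategoryTheory CategoryTheory.Limits MonoidalCategory CartesianMonoidalCategory MonObj GrpObj AlgebraicGeometry TopologicalSpace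

namespace Groth.GaDual.WittUnip

open Groth.GrpschAbsch WittOp WittEnd WittIsogeny WittSubgroup WittExt

variable (p : ℕ) [hp : Fact p.Prime] {k : Type u} [Field k]

local notation "𝕊" => Spec (CommRingCat.of k)
local notation "𝕎₀" => WittGrp.W p
local notation "pt" => 𝟙_ (Over (Spec (CommRingCat.of k)))

/-- A connected commutative unipotent group, with the killing condition. -/
structure IsUnip (G : Over 𝕊) [GrpObj G] : Prop where
  comm : IsCommMonObj G
  smooth : Smooth G.hom
  conn : ConnectedSpace G.left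
  affine : IsAffine G.left
  killed : ∃ N, (𝟙 G) ^ (p ^ N) = 1

variable {p}

lemma IsUnip.qc {G : Over 𝕊} [GrpObj G] (h : IsUnip p G) : QuasiCompact G.hom := by
  have := h.affine
  infer_instance

lemma IsUnip.sep {G : Over 𝕊} [GrpObj G] (h : IsUnip p G) : IsSeparated G.hom := by
  have := h.affine
  infer_instance

lemma IsUnip.lft {G : Over 𝕊} [GrpObj G] (h : IsUnip p G) : LocallyOfFiniteType G.hom := by
  have := h.smooth
  infer_instance

lemma IsUnip.reduced {G : Over 𝕊} [GrpObj G] (h : IsUnip p G) : IsReduced G.left := by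
  have := h.smooth
  exact Groth.Agf.isReduced_of_smooth G.hom

lemma IsUnip.exists_pow {G : Over 𝕊} [GrpObj G] (h : IsUnip p G) :
    ∃ N, ∀ (T : Over 𝕊) (x : T ⟶ G), x ^ (p ^ N) = 1 := by
  obtain ⟨N, hN⟩ := h.killed
  refine ⟨N, fun T x => ?_⟩
  have := congrArg (x ≫ ·) hN
  simpa only [MonObj.comp_pow, Category.comp_id, MonObj.comp_one] using this

theorem IsUnip.noSubtorus {G : Over 𝕊} [GrpObj G] (h : IsUnip p G) : Red.HasNoSubtorus k G := by
  obtain ⟨N, hN⟩ := h.exists_pow
  exact hasNoSubtorus_of_pow_eq_one G (pow_pos hp.out.pos N) hN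

variable [IsAlgClosed k]

theorem isUnip_of_noSubtorus [CharP k p] (G : Over 𝕊) [GrpObj G] [hc : IsCommMonObj G] [hs : Smooth G.hom]
    [hn : ConnectedSpace G.left] [ha : IsAffine G.left] (hG : Red.HasNoSubtorus k G) : IsUnip p G := by
  refine ⟨hc, hs, hn, ha, ?_⟩
  obtain ⟨A, _, _, _, _, e, _, -⟩ := Groth.Misc1.Unip.exists_unipotent_hopf G hG
  have : IsIso e.hom.left := inferInstanceAs (IsIso ((Over.forget _).map e.hom))
  have hd : topologicalKrullDim G.left = ringKrullDim A := by
    rw [← PrimeSpectrum.topologicalKrullDim_eq_ringKrullDim]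
    exact (IsHomeomorph.topologicalKrullDim_eq _ e.hom.left.homeomorph.isHomeomorph).symm
  obtain ⟨r, φ, hφ⟩ := Algebra.FiniteType.iff_quotient_mvPolynomial''.1 ‹Algebra.FiniteType k A›
  have hle := ringKrullDim_le_of_surjective φ.toRingHom hφ
  rw [MvPolynomial.ringKrullDim_of_isNoetherianRing, ringKrullDim_eq_zero_of_field, zero_add,
    ← hd] at hle
  have : Nonempty G.left := ⟨Groth.AlgGrp1.rpt (1 : pt ⟶ G)⟩
  obtain ⟨n, -, hn⟩ : ∃ n : ℕ, n ≤ r ∧ topologicalKrullDim G.left = n := by
    have h0 : (0 : WithBot ℕ∞) ≤ topologicalKrullDim G.left := by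
      rw [hd]
      exact ringKrullDim_nonneg_of_nontrivial
    revert hle h0
    generalize topologicalKrullDim G.left = d
    intro hle h0
    cases d with
    | bot => simp at h0
    | coe d =>
      rw [Nat.card_fin] at hle
      have hdr : d ≤ (r : ℕ∞) := WithBot.coe_le_coe.1 hle
      obtain ⟨m, rfl⟩ := ENat.ne_top_iff_exists.1 (ne_top_of_le_ne_top (ENat.natCast_ne_top r) hdr)
      exact ⟨m, by exact_mod_cast hdr, rfl⟩
  exact ⟨n, Groth.Agent.S12186.result p k G hG n hn⟩

lemma isUnip_W [CharP k p] (n : ℕ) : IsUnip p (𝕎₀ n 𝕊) := by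
  obtain ⟨h1, h2, h3⟩ := Groth.Agent.S12182.result p k n
  have := isAffineHom_W p (k := k) n
  have := isAffine_of_isAffineHom (𝕎₀ n 𝕊).hom
  exact isUnip_of_noSubtorus _ h3

/-- A closed subgroup which is smooth and connected. -/
lemma IsUnip.of_mono {H G : Over 𝕊} [GrpObj H] [GrpObj G] (h : IsUnip p G) (j : H ⟶ G) [IsMonHom j]
    [IsClosedImmersion j.left] (hs : Smooth H.hom) (hc : ConnectedSpace H.left) : IsUnip p H := by
  have := h.comm
  have := h.affine
  have : Mono j := Over.mono_of_mono_left j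
  refine ⟨Groth.AbVarMul.isCommMonObj_of_mono j, hs, hc, isAffine_of_isAffineHom j.left, ?_⟩
  obtain ⟨N, hN⟩ := h.exists_pow
  refine ⟨N, ?_⟩
  rw [← cancel_mono j, MonObj.one_comp, MonObj.pow_comp, Category.id_comp, hN]

/-- A smooth affine quotient. -/
lemma IsUnip.of_surjective {G Q : Over 𝕊} [GrpObj G] [GrpObj Q] (h : IsUnip p G) (q : G ⟶ Q)
    [IsMonHom q] [Surjective q.left] (hs : Smooth Q.hom) (ha : IsAffine Q.left) : IsUnip p Q := by
  have := h.comm
  have := h.lft
  have := h.conn
  have hsur : ∀ y : pt ⟶ Q, ∃ x, x ≫ q = y := fun y =>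
    Groth.AlgGrp1.exists_rpt_lift q y (q.left.surjective _)
  obtain ⟨N, hN⟩ := h.exists_pow
  refine ⟨Groth.NeronArea.TorsCount.isCommMonObj_of_pts Q fun a b => ?_, hs,
    Groth.AlgGrp1.connectedSpace_of_surjective q, ha, N, hom_ext_pt _ _ fun y => ?_⟩
  · obtain ⟨x, rfl⟩ := hsur a
    obtain ⟨z, rfl⟩ := hsur b
    rw [← MonObj.mul_comp, ← MonObj.mul_comp, _root_.mul_comm]
  · obtain ⟨x, rfl⟩ := hsur y
    rw [MonObj.comp_pow, Category.comp_id, ← MonObj.pow_comp, hN, MonObj.one_comp, MonObj.comp_one]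

/-- Trivial groups: one rational point. -/
lemma eq_one_of_pts {G : Over 𝕊} [GrpObj G] (h : IsUnip p G) (h1 : ∀ x : pt ⟶ G, x = 1)
    {T : Over 𝕊} (x : T ⟶ G) : x = 1 := by
  have := h.smooth
  have := h.sep
  have e : 𝟙 G = 1 := hom_ext_pt _ _ fun t => by rw [Category.comp_id, MonObj.comp_one]; exact h1 t
  rw [← Category.comp_id x, e, MonObj.comp_one]

omit hp [IsAlgClosed k] in
/-- A homomorphism with trivial kernel on all points is a monomorphism. -/
lemma mono_of_trivial {G H : Over 𝕊} [GrpObj G] [GrpObj H] (f : G ⟶ H) [IsMonHom f]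
    (h : ∀ (T : Over 𝕊) (x : T ⟶ G), x ≫ f = 1 → x = 1) : Mono f where
  right_cancellation a b hab := div_eq_one.1 (h _ _ (by rw [GrpObj.div_comp, hab, div_self']))

/-- Isogenies are recognised on rational points. -/
theorem isIsogenyOver_of_pt {G H : Over 𝕊} [GrpObj G] [GrpObj H] [Smooth G.hom] [Smooth H.hom]
    [IsAffine G.left] [IsAffine H.left] (f : G ⟶ H) [IsMonHom f]
    (hs : ∀ y : pt ⟶ H, ∃ x, x ≫ f = y) (hk : {x : pt ⟶ G | x ≫ f = 1}.Finite) :
    SGA7.IsIsogenyOver f := by
  have := LocallyOfFiniteType.jacobsonSpace H.hom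
  have : IsLocallyNoetherian H.left := LocallyOfFiniteType.isLocallyNoetherian H.hom
  refine ⟨?_, fun N i hi => ?_⟩
  · have : LocallyOfFiniteType (f.left ≫ H.hom) := by rw [Over.w]; infer_instance
    have := locallyOfFiniteType_of_comp f.left H.hom
    have hc : Topology.IsConstructible (f.left '' Set.univ) := f.left.isConstructible_image (.univ)
    refine ⟨fun y => ?_⟩
    obtain ⟨x, -, hx⟩ := Groth.SitesTopoi.closedPoints_constructible_subset
      (Topology.IsConstructible.univ) hc (fun c _ => by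
        obtain ⟨q, hq⟩ := Groth.AlgGrp1.exists_rpt (X := H) c.2
        obtain ⟨x, rfl⟩ := hs q
        exact ⟨Groth.AlgGrp1.rpt x, trivial, hq⟩) (Set.mem_univ y)
    exact ⟨x, hx⟩
  · have : IsClosedImmersion (η[H]).left := by
      have : IsClosedImmersion ((η[H]).left ≫ H.hom) := by
        rw [Over.w]; exact inferInstanceAs (IsClosedImmersion (𝟙 _))
      exact IsClosedImmersion.of_comp _ H.hom
    have : IsClosedImmersion i.left :=
      MorphismProperty.of_isPullback (P := @IsClosedImmersion) (hi.map (Over.forget 𝕊)).flip ‹_›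
    have : LocallyOfFiniteType N.hom := by rw [← Over.w i]; infer_instance
    have : QuasiCompact N.hom := by rw [← Over.w i]; infer_instance
    have : Mono i := Over.mono_of_mono_left i
    have : Finite (pt ⟶ N) := Set.finite_univ_iff.mp <| Set.Finite.of_finite_image
      (f := fun q => q ≫ i) (hk.subset (by
        rintro _ ⟨q, -, rfl⟩
        show (q ≫ i) ≫ f = 1
        rw [Category.assoc, Groth.AlgGrp1.IsKernel.comp_eq_one hi, MonObj.comp_one]))
      (fun _ _ _ _ h => (cancel_mono i).1 h)
    have := LocallyOfFiniteType.jacobsonSpace N.hom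
    have hcl : (closedPoints N.left).Finite :=
      (Set.finite_range (Groth.AlgGrp1.rpt (X := N))).subset fun c hc => Groth.AlgGrp1.exists_rpt hc
    have : DiscreteTopology N.left := JacobsonSpace.discreteTopology hcl
    have : CompactSpace N.left := QuasiCompact.compactSpace_of_compactSpace N.hom
    have : Finite N.left := finite_of_compact_of_discrete
    have : LocallyQuasiFinite N.hom := .of_finite_preimage_singleton _ fun _ => Set.toFinite _
    have : IsLocallyArtinian 𝕊 :=
      Scheme.isLocallyArtinianScheme_Spec.2 (inferInstanceAs (IsArtinianRing k))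
    exact IsFinite.of_locallyQuasiFinite _

lemma IsUnip.isogeny {G H : Over 𝕊} [GrpObj G] [GrpObj H] (hG : IsUnip p G) (hH : IsUnip p H)
    (f : G ⟶ H) [IsMonHom f] (hs : ∀ y : pt ⟶ H, ∃ x, x ≫ f = y)
    (hk : {x : pt ⟶ G | x ≫ f = 1}.Finite) : SGA7.IsIsogenyOver f := by
  have := hG.smooth; have := hH.smooth; have := hG.affine; have := hH.affine
  exact isIsogenyOver_of_pt f hs hk

/-- Isogenies are surjective on rational points. -/
lemma surjective_pt {G H : Over 𝕊} [LocallyOfFiniteType G.hom] [LocallyOfFiniteType H.hom] (f : G ⟶ H) [Surjective f.left]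
    (y : pt ⟶ H) : ∃ x, x ≫ f = y :=
  Groth.AlgGrp1.exists_rpt_lift f y (f.left.surjective _)

/-- Isogenies have finitely many rational points in their kernel. -/
lemma finite_ker_pt {G H : Over 𝕊} [GrpObj G] [GrpObj H] (f : G ⟶ H)
    (hf : SGA7.IsIsogenyOver f) : {x : pt ⟶ G | x ≫ f = 1}.Finite := by
  have hker : AlgGrp.IsKernel (pullback.fst f η[H]) f := by
    show IsPullback _ (toUnit _) f η[H]
    rw [toUnit_unique (toUnit _) (pullback.snd f η[H])]
    exact IsPullback.of_hasPullback f η[H]
  set i := pullback.fst f η[H] with hi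
  have := hf.2 _ i hker
  have : LocallyOfFiniteType (pullback f η[H]).hom := inferInstance
  have : Finite (pullback f η[H]).left := by
    have hfib := IsFinite.finite_preimage_singleton (pullback f η[H]).hom
      (IsLocalRing.closedPoint k)
    have : (pullback f η[H]).hom.base ⁻¹' {IsLocalRing.closedPoint k} = Set.univ :=
      Set.eq_univ_of_forall fun x => Subsingleton.elim (α := PrimeSpectrum k) _ _
    exact Set.finite_univ_iff.1 (this ▸ hfib)
  have : Finite (pt ⟶ pullback f η[H]) :=
    Finite.of_injective Groth.AlgGrp1.rpt fun _ _ h => Groth.AlgGrp1.rpt_injective h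
  exact (Set.finite_range (fun q : pt ⟶ pullback f η[H] => q ≫ i)).subset fun x hx =>
    Groth.AlgGrp1.IsKernel.exists_lift hker x hx

omit hp in
/-- A surjective homomorphism onto a smooth group is flat. -/
lemma flat_of_surjective {G H : Over 𝕊} [GrpObj G] [GrpObj H] [Smooth G.hom] [Smooth H.hom]
    [QuasiCompact G.hom] [QuasiCompact H.hom] (f : G ⟶ H) [IsMonHom f] [Surjective f.left] :
    Flat f.left := by
  obtain ⟨K, _, c, g, _, _, _, _, _, _, _, hgc⟩ := Groth.AlgGrp1.exists_image_hom f
  have : IsReduced H.left := Groth.Agf.isReduced_of_smooth H.hom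
  have hsc : Surjective c.left := ⟨fun y => by
    obtain ⟨x, hx⟩ := f.left.surjective y
    exact ⟨g.left x, by rw [← hx, ← hgc]; rfl⟩⟩
  have : IsIso c.left := isIso_of_isClosedImmersion_of_surjective c.left
  rw [← hgc, Over.comp_left]
  infer_instance

/-- The kernel of a homomorphism with a section. -/
theorem exists_kernel_of_section {G Q : Over 𝕊} [GrpObj G] [GrpObj Q] (h : IsUnip p G)
    (hQ : IsSeparated Q.hom) (q : G ⟶ Q) [IsMonHom q] (s : Q ⟶ G) (hs : s ≫ q = 𝟙 Q) :
    ∃ (N : Over 𝕊) (_ : GrpObj N) (i : N ⟶ G) (_ : IsMonHom i),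
      IsClosedImmersion i.left ∧ IsUnip p N ∧ AlgGrp.IsKernel i q := by
  have := h.comm
  have := h.lft
  have := h.reduced
  have := h.conn
  have hker : AlgGrp.IsKernel (pullback.fst q η[Q]) q := by
    show IsPullback _ (toUnit _) q η[Q]
    rw [toUnit_unique (toUnit _) (pullback.snd q η[Q])]
    exact IsPullback.of_hasPullback q η[Q]
  let N := pullback q η[Q]
  let i : N ⟶ G := pullback.fst q η[Q]
  have := Groth.AlgGrp1.IsKernel.mono hker
  have hi : ∀ {T : Over 𝕊} (z : T ⟶ N), (z ≫ i) ≫ q = 1 := fun z => by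
    rw [Category.assoc, Groth.AlgGrp1.IsKernel.comp_eq_one hker, MonObj.comp_one]
  obtain ⟨_, _⟩ := Groth.Agf.exists_grpObj_of_subgroup i (fun T g => g ≫ q = 1)
    (fun T g => Groth.AlgGrp1.IsKernel.exists_iff hker g) (fun T => MonObj.one_comp q)
    (fun T a b ha hb => by rw [MonObj.mul_comp, ha, hb, _root_.mul_one])
    (fun T a ha => by rw [GrpObj.inv_comp, ha, inv_one])
  have hmi : IsMonHom i := ‹_›
  have : IsClosedImmersion (η[Q]).left := by
    have : IsClosedImmersion ((η[Q]).left ≫ Q.hom) := by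
      rw [Over.w]; exact inferInstanceAs (IsClosedImmersion (𝟙 _))
    exact IsClosedImmersion.of_comp _ Q.hom
  have hci : IsClosedImmersion i.left :=
    MorphismProperty.of_isPullback (P := @IsClosedImmersion) (hker.map (Over.forget 𝕊)).flip ‹_›
  obtain ⟨r, hr⟩ := Groth.AlgGrp1.IsKernel.exists_lift hker (𝟙 G / (q ≫ s) * (1 : G ⟶ Q) ≫ s)
    (by rw [MonObj.mul_comp, GrpObj.div_comp, Category.id_comp, Category.assoc, Category.assoc, hs,
      Category.comp_id, Category.comp_id, div_self', _root_.one_mul])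
  have hir : i ≫ r = 𝟙 N := by
    rw [← cancel_mono i, Category.assoc, hr, Category.id_comp, MonObj.comp_mul, GrpObj.comp_div,
      Category.comp_id, ← Category.assoc, Groth.AlgGrp1.IsKernel.comp_eq_one hker, ← Category.assoc,
      MonObj.comp_one, div_mul_cancel]
  have : LocallyOfFiniteType N.hom := by rw [← Over.w i]; infer_instance
  have : IsIso (i.left ≫ r.left) := by
    rw [← Over.comp_left, hir]; exact inferInstanceAs (IsIso (𝟙 N.left))
  have : ∀ y : N.left, _root_.IsReduced (N.left.presheaf.stalk y) := fun y => by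
    have e := Scheme.Hom.stalkMap_comp i.left r.left y
    have hinj : Function.Injective (r.left.stalkMap (i.left y)) := by
      have := (ConcreteCategory.bijective_of_isIso ((i.left ≫ r.left).stalkMap y)).1
      rw [e] at this
      exact Function.Injective.of_comp (f := (i.left.stalkMap y).hom) this
    have hy : (i.left ≫ r.left) y = y := by
      rw [← Over.comp_left, hir]; rfl
    rw [← hy]
    exact isReduced_of_injective (r.left.stalkMap (i.left y)).hom hinj
  have : IsReduced N.left := isReduced_of_isReduced_stalk N.left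
  have : GrpObj (Over.mk N.hom) := ‹GrpObj N›
  have hsm : Smooth N.hom := smooth_of_perfectField_of_isReduced N.hom
  have hcn : ConnectedSpace N.left := Function.Surjective.connectedSpace (f := r.left)
    (fun y => ⟨i.left y, by rw [← Scheme.Hom.comp_apply, ← Over.comp_left, hir]; rfl⟩)
    r.left.continuous
  exact ⟨N, _, i, hmi, hci, h.of_mono i hsm hcn, hker⟩

/-- Noetherian induction along proper closed subschemes. -/
theorem induction {motive : ∀ (G : Over 𝕊), GrpObj G → Prop}
    (step : ∀ (G : Over 𝕊) (hG : GrpObj G), IsUnip p G →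
      (∀ (G' : Over 𝕊) (hG' : GrpObj G'), IsUnip p G' →
        ∀ (c : G'.left ⟶ G.left), IsClosedImmersion c → ¬ Surjective c → motive G' hG') → motive G hG)
    (G : Over 𝕊) (hG : GrpObj G) (h : IsUnip p G) : motive G hG := by
  have := h.lft
  have := h.qc
  have : IsLocallyNoetherian G.left := LocallyOfFiniteType.isLocallyNoetherian G.hom
  have : CompactSpace G.left := QuasiCompact.compactSpace_of_compactSpace G.hom
  have : IsNoetherian G.left := {}
  suffices H : ∀ (Z : Closeds G.left) (G' : Over 𝕊) (hG' : GrpObj G'), IsUnip p G' →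
      ∀ c : G'.left ⟶ G.left, IsClosedImmersion c → Set.range c = (Z : Set G.left) → motive G' hG' from
    H ⊤ G hG h (𝟙 _) inferInstance (Set.eq_univ_of_forall fun x => ⟨x, rfl⟩)
  intro Z
  induction Z using WellFoundedLT.induction with
  | ind Z ih =>
    intro G' hG' h' c _ hc
    refine step G' hG' h' fun G'' hG'' h'' c' _ hns => ?_
    let Z' : Closeds G.left := ⟨Set.range (c' ≫ c), (c' ≫ c).isClosedEmbedding.isClosed_range⟩
    refine ih Z' ?_ G'' hG'' h'' (c' ≫ c) inferInstance rfl
    refine lt_of_le_of_ne (fun x hx => ?_) fun e => hns ⟨fun y => ?_⟩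
    · obtain ⟨y, hy⟩ := hx
      show x ∈ (Z : Set G.left)
      rw [← hc]
      exact ⟨c' y, hy⟩
    obtain ⟨z, hz⟩ : c y ∈ Set.range (c' ≫ c) := by
      show c y ∈ (Z' : Set G.left)
      rw [e, ← hc]
      exact ⟨y, rfl⟩
    exact ⟨z, c.isClosedEmbedding.injective hz⟩

end Groth.GaDual.WittUnip
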