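import Groth.Agent.GaDual.WittUnip.Basic

/-!
Lifting homomorphisms from and to Witt groups along extensions by or of `W_1`.
-/

universe u

open CategoryTheory CategoryTheory.Limits MonoidalCategory CartesianMonoidalCategory MonObj GrpObj AlgebraicGeometry

namespace Groth.GaDual.WittUnip

open Groth.GrpschAbsch WittOp WittEnd WittIsogeny WittSubgroup WittExt

variable {p : ℕ} [hp : Fact p.Prime] {k : Type u} [Field k] [CharP k p] [IsAlgClosed k]

local notation "𝕊" => Spec (CommRingCat.of k)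
local notation "𝕎₀" => WittGrp.W p
local notation "pt" => 𝟙_ (Over (Spec (CommRingCat.of k)))

/-- The cocycle of a scheme-theoretic lift of a homomorphism, pushed to `W_m`. -/
theorem exists_coc {n m : ℕ} {G Q H : Over 𝕊} [GrpObj G] [IsCommMonObj G] [GrpObj Q] [GrpObj H]
    {i : H ⟶ G} [IsMonHom i] {π : G ⟶ Q} [IsMonHom π] (hker : AlgGrp.IsKernel i π)
    (σ : 𝕎₀ n 𝕊 ⟶ G) [IsMonHom (σ ≫ π)] (χ : H ⟶ 𝕎₀ m 𝕊) [IsMonHom χ] :
    ∃ f : V p k n → V p k n → V p k m, (Pol (Fun2 p k n) fun x => f x.1 x.2) ∧ IsCoc f ∧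
      ∀ v w, ∃ z : pt ⟶ H, (kpt p v ≫ σ : pt ⟶ G) * (kpt p w ≫ σ : pt ⟶ G) = (kpt p (v + w) ≫ σ : pt ⟶ G) * (z ≫ i) ∧
        z ≫ χ = kpt p (f v w) := by
  have := Groth.AlgGrp1.IsKernel.mono hker
  let W₀ := 𝕎₀ n 𝕊
  let d : W₀ ⊗ W₀ ⟶ G := (fst W₀ W₀ ≫ σ) * (snd W₀ W₀ ≫ σ) / ((fst W₀ W₀ * snd W₀ W₀) ≫ σ)
  have hd : d ≫ π = 1 := by
    simp only [d, GrpObj.div_comp, MonObj.mul_comp, Category.assoc]
    simp [W₀]
  obtain ⟨F, hF⟩ := Groth.AlgGrp1.IsKernel.exists_lift hker d hd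
  let take : 𝕎₀ (n + n) 𝕊 ⟶ W₀ := ofCoeff p fun i =>
    (some (⟨(i : ℕ), by omega⟩ : Fin (n + n))).elim 0 (WittGrp.coord p)
  let q : 𝕎₀ (n + n) 𝕊 ⟶ W₀ ⊗ W₀ := lift take (drop p (Nat.le_add_right n n))
  let app : V p k n × V p k n → V p k (n + n) := fun x => TruncatedWittVector.mk p fun i =>
    if h : (i : ℕ) < n then x.1.coeff ⟨i, h⟩ else x.2.coeff ⟨(i : ℕ) - n, by omega⟩
  let f : V p k n → V p k n → V p k m := fun v w => val p (q ≫ F ≫ χ) (app (v, w))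
  have happ : Pol (Fun2 p k n) app := by
    intro j
    by_cases h : (j : ℕ) < n
    · simp only [app, TruncatedWittVector.coeff_mk, dif_pos h]; exact pol_fst n _
    · simp only [app, TruncatedWittVector.coeff_mk, dif_neg h]; exact pol_snd n _
  let Z : V p k n → V p k n → (pt ⟶ H) := fun v w => (kpt p (app (v, w)) ≫ q) ≫ F
  have hf : ∀ v w, Z v w ≫ χ = kpt p (f v w) := fun v w => by
    simp only [Z, f, kpt_val, Category.assoc]
  have hkey : ∀ v w, Z v w ≫ i = (kpt p v ≫ σ) * (kpt p w ≫ σ) / (kpt p (v + w) ≫ σ) := by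
    intro v w
    have h1 : kpt p (app (v, w)) ≫ take = kpt p v := by
      rw [← kpt_val]
      congr 1
      ext i
      rw [coeff_val_ofCoeff_coord]
      simp [app]
    have h2 : kpt p (app (v, w)) ≫ drop p (Nat.le_add_right n n) = kpt p w := by
      rw [← kpt_val]
      congr 1
      ext i
      rw [coeff_val_drop]
      simp [app]
    have h3 : kpt p (app (v, w)) ≫ q = lift (kpt p v) (kpt p w) := by rw [comp_lift, h1, h2]
    simp only [Z]
    rw [Category.assoc, hF, h3]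
    have e1 : lift (kpt p v) (kpt p w) ≫ fst W₀ W₀ = kpt p v := lift_fst _ _
    have e2 : lift (kpt p v) (kpt p w) ≫ snd W₀ W₀ = kpt p w := lift_snd _ _
    simp only [d, GrpObj.comp_div, MonObj.comp_mul, ← Category.assoc, e1, e2, kpt_add]
  clear_value Z
  refine ⟨f, happ.comp (pol_val _), ⟨fun v w => kpt_injective p ?_, fun a b c => kpt_injective p ?_⟩,
    fun v w => ⟨Z v w, by rw [hkey, mul_div_cancel], hf v w⟩⟩
  · rw [← hf, ← hf]
    congr 1
    rw [← cancel_mono i, hkey, hkey, add_comm w v, _root_.mul_comm]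
  · rw [kpt_add, kpt_add, ← hf, ← hf, ← hf, ← hf, ← MonObj.mul_comp, ← MonObj.mul_comp]
    congr 1
    rw [← cancel_mono i, MonObj.mul_comp, MonObj.mul_comp, hkey, hkey, hkey, hkey, add_assoc]
    generalize kpt p (a + (b + c)) ≫ σ = z
    generalize kpt p (a + b) ≫ σ = y
    generalize kpt p (b + c) ≫ σ = x
    rw [div_mul_div_comm, div_mul_div_comm, div_eq_div_iff_mul_eq_mul]
    simp only [_root_.mul_comm, _root_.mul_left_comm, _root_.mul_assoc]

/-- A homomorphism to the quotient by `W_1` lifts to the next Witt group. -/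
theorem exists_lift_hom {n : ℕ} (hn : 1 ≤ n) {G Q : Over 𝕊} [GrpObj G] [GrpObj Q] (hG : IsUnip p G)
    {i : 𝕎₀ 1 𝕊 ⟶ G} [IsMonHom i] {π : G ⟶ Q} [IsMonHom π] (hker : AlgGrp.IsKernel i π)
    (s : Q ⟶ G) (hs : s ≫ π = 𝟙 Q) (f₀ : 𝕎₀ n 𝕊 ⟶ Q) [IsMonHom f₀] :
    ∃ g : 𝕎₀ (n + 1) 𝕊 ⟶ G, IsMonHom g ∧ g ≫ π = WittGrp.R p 𝕊 (Nat.le_add_right n 1) ≫ f₀ := by
  have := hG.comm
  have := hG.sep
  let σ : 𝕎₀ n 𝕊 ⟶ G := f₀ ≫ s
  have hσ : σ ≫ π = f₀ := by rw [Category.assoc, hs, Category.comp_id]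
  have : IsMonHom (σ ≫ π) := by rw [hσ]; infer_instance
  obtain ⟨f, hfp, hfc, hf⟩ := exists_coc hker σ (𝟙 (𝕎₀ 1 𝕊))
  obtain ⟨n, rfl⟩ := Nat.exists_eq_add_of_le' hn
  obtain ⟨h, l, hh, he⟩ := classify_left p n f hfp hfc
  let N := n + 1 + 1
  have hT : n + 1 ≤ N := Nat.le_add_right _ 1
  have h1 : 1 ≤ N := Nat.le_add_left 1 _
  let T : V p k N → V p k (n + 1) := fun u => TruncatedWittVector.truncate hT u
  let α : V p k N → V p k 1 := fun u => E p l (defect p hT h1 u) - h (T u)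
  have hα : Pol (Fun1 p k N) α :=
    ((pol_defect p hT h1).comp (pol_E p l)).sub ((pol_truncate p hT).comp hh)
  obtain ⟨a, ha⟩ := exists_hom_of_pol hα
  have := (Groth.Agent.S12182.result p k N).1
  let g : 𝕎₀ N 𝕊 ⟶ G := (WittGrp.R p 𝕊 hT ≫ σ) * (a ≫ i)
  have hg : ∀ u, kpt p u ≫ g = (kpt p (T u) ≫ σ) * (kpt p (α u) ≫ i) := fun u => by
    rw [show T u = val p (WittGrp.R p 𝕊 hT) u from (val_R p hT u).symm, kpt_val, ← ha, kpt_val,
      MonObj.comp_mul, Category.assoc, Category.assoc]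
  have hcomp : ∀ u w, α (u + w) = α u + α w + f (T u) (T w) := fun u w => by
    simp only [α, T]
    rw [defect_add p hT h1 (Nat.le_of_eq (by omega)) (shift_cl p (n + 1)), E_add, E_add, he, map_add, D]
    abel
  refine ⟨g, isMonHom_of_pt g fun x y => ?_, ?_⟩
  · obtain ⟨u, rfl⟩ := exists_kpt p x
    obtain ⟨w, rfl⟩ := exists_kpt p y
    obtain ⟨z, hz, hz'⟩ := hf (T u) (T w)
    rw [Category.comp_id] at hz'
    subst hz'
    rw [← kpt_add, hg, hg, hg, hcomp, kpt_add, kpt_add, MonObj.mul_comp, MonObj.mul_comp,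
      _root_.mul_mul_mul_comm, hz, show T (u + w) = T u + T w from map_add _ _ _]
    generalize (kpt p (T u + T w) ≫ σ : pt ⟶ G) = e₀
    generalize (kpt p (α u) ≫ i : pt ⟶ G) = e₁
    generalize (kpt p (α w) ≫ i : pt ⟶ G) = e₂
    generalize (kpt p (f (T u) (T w)) ≫ i : pt ⟶ G) = e₃
    rw [_root_.mul_assoc e₀, _root_.mul_comm (e₁ * e₂) e₃]
  · rw [MonObj.mul_comp, Category.assoc, Category.assoc a, hσ, Groth.AlgGrp1.IsKernel.comp_eq_one hker,
      MonObj.comp_one, _root_.mul_one]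

/-- A homomorphism on the kernel of a map onto `W_1` extends to the next Witt group. -/
theorem exists_extend_hom {n : ℕ} (hn : 1 ≤ n) {G H : Over 𝕊} [GrpObj G] [GrpObj H] (hG : IsUnip p G)
    {j : H ⟶ G} [IsMonHom j] {q : G ⟶ 𝕎₀ 1 𝕊} [IsMonHom q] (hker : AlgGrp.IsKernel j q)
    (s : 𝕎₀ 1 𝕊 ⟶ G) (hs : s ≫ q = 𝟙 _) (hH : Smooth H.hom) (χ : H ⟶ 𝕎₀ n 𝕊) [IsMonHom χ] :
    ∃ h : G ⟶ 𝕎₀ (n + 1) 𝕊, IsMonHom h ∧ j ≫ h = χ ≫ WittGrp.V p 𝕊 (Nat.le_add_right n 1) := by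
  have := hG.comm
  have := hG.smooth
  have := Groth.AlgGrp1.IsKernel.mono hker
  have : IsMonHom (s ≫ q) := by rw [hs]; infer_instance
  obtain ⟨f, hfp, hfc, hf⟩ := exists_coc hker s χ
  obtain ⟨n, rfl⟩ := Nat.exists_eq_add_of_le' hn
  obtain ⟨H', ψ, hH', he⟩ := classify_right p n f hfp hfc
  let N := n + 1 + 1
  have hm : n + 1 ≤ N := Nat.le_add_right _ 1
  let β : V p k 1 → V p k N := fun a => WittGrp.shift p hm (H' a) + pd p N (E p ψ a)
  have hβ : Pol (Fun1 p k 1) β := (hH'.comp (pol_shift p hm)).add ((pol_E p ψ).comp (pol_pd p N))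
  have hcomp : ∀ v w, β v + β w = β (v + w) + WittGrp.shift p hm (f v w) := fun v w => by
    simp only [β, he, D, map_add, map_sub, N]
    rw [shift_tl, E_add]
    abel
  obtain ⟨b, hb⟩ := exists_hom_of_pol hβ
  obtain ⟨r, hr⟩ := Groth.AlgGrp1.IsKernel.exists_lift hker (𝟙 G / (q ≫ s)) (by
    rw [GrpObj.div_comp, Category.id_comp, Category.assoc, hs, Category.comp_id, div_self'])
  have := isAffineHom_W p (k := k) N
  let h : G ⟶ 𝕎₀ N 𝕊 := (q ≫ b) * (r ≫ χ ≫ WittGrp.V p 𝕊 hm)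
  have hdec : ∀ x : pt ⟶ G, ∃ (v : V p k 1) (z : pt ⟶ H) (c : V p k (n + 1)),
      x = (kpt p v ≫ s : pt ⟶ G) * (z ≫ j) ∧ z ≫ χ = kpt p c := fun x => by
    obtain ⟨v, hv⟩ := exists_kpt p (x ≫ q)
    obtain ⟨c, hc⟩ := exists_kpt p ((x ≫ r) ≫ χ)
    refine ⟨v, x ≫ r, c, ?_, hc.symm⟩
    rw [hv, Category.assoc, Category.assoc, hr, GrpObj.comp_div, Category.comp_id, mul_div_cancel]
  have hh : ∀ (v : V p k 1) (z : pt ⟶ H) (c : V p k (n + 1)), z ≫ χ = kpt p c →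
      ((kpt p v ≫ s : pt ⟶ G) * (z ≫ j)) ≫ h = kpt p (β v + WittGrp.shift p hm c) := fun v z c hc => by
    have h1 : ((kpt p v ≫ s : pt ⟶ G) * (z ≫ j)) ≫ q = kpt p v := by
      rw [MonObj.mul_comp, Category.assoc, Category.assoc, hs, Category.comp_id,
        Groth.AlgGrp1.IsKernel.comp_eq_one hker, MonObj.comp_one, _root_.mul_one]
    have h2 : ((kpt p v ≫ s : pt ⟶ G) * (z ≫ j)) ≫ r = z := by
      rw [← cancel_mono j, Category.assoc, hr, GrpObj.comp_div, Category.comp_id, ← Category.assoc _ q, h1]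
      exact _root_.mul_div_cancel_left _ _
    rw [MonObj.comp_mul, ← Category.assoc, h1, ← Category.assoc, h2, ← Category.assoc z, hc, ← kpt_val,
      ← kpt_val, hb, val_V, ← kpt_add]
  refine ⟨h, isMonHom_of_pt h fun x y => ?_, hom_ext_pt _ _ fun t => ?_⟩
  · obtain ⟨v, z, c, rfl, hc⟩ := hdec x
    obtain ⟨w, z', c', rfl, hc'⟩ := hdec y
    obtain ⟨z'', hz'', hc''⟩ := hf v w
    rw [hh v z c hc, hh w z' c' hc', ← kpt_add, _root_.mul_mul_mul_comm, hz'', _root_.mul_assoc,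
      ← MonObj.mul_comp z, ← MonObj.mul_comp z'',
      hh (v + w) (z'' * (z * z')) (f v w + (c + c')) (by rw [MonObj.mul_comp, MonObj.mul_comp, hc'', hc, hc', kpt_add, kpt_add])]
    congr 1
    rw [map_add, map_add, _root_.add_add_add_comm (β v), hcomp]
    abel
  · obtain ⟨z₀, hz₀, hc₀⟩ := hf 0 0
    obtain ⟨c, hc⟩ := exists_kpt p (t ≫ χ)
    rw [add_zero] at hz₀
    have e : t ≫ j = (kpt p 0 ≫ s : pt ⟶ G) * ((t / z₀) ≫ j) := by
      rw [GrpObj.div_comp, mul_left_cancel hz₀, mul_div_cancel]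
    have hb0 : β 0 = WittGrp.shift p hm (f 0 0) := by
      have e := hcomp 0 0
      rw [add_zero] at e
      exact add_left_cancel e
    have hdiv : (t / z₀) ≫ χ = kpt p (c - f 0 0) := by
      rw [GrpObj.div_comp, hc₀, hc.symm, sub_eq_add_neg, kpt_add, kpt_neg, div_eq_mul_inv]
    rw [← Category.assoc, e, hh 0 _ _ hdiv, hb0, ← map_add, add_sub_cancel, ← Category.assoc, ← hc, ← kpt_val, val_V]

end Groth.GaDual.WittUnip
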